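import Mathlib

/-!
# A concrete field with four elements and vectors of length four over it
-/

set_option autoImplicit false

namespace Cfsg.Agent.Lib.Helper86.Sp4F4

/-- the field with four elements: `0, 1, ω, ω²` -/
inductive F4 : Type
  | z | o | w | v
  deriving DecidableEq

instance : Fintype F4 where
  elems := {F4.z, F4.o, F4.w, F4.v}
  complete := by intro x; cases x <;> decide

namespace F4

def add : F4 → F4 → F4
  | z, x => x
  | x, z => x
  | o, o => z
  | o, w => v
  | o, v => w
  | w, o => v
  | w, w => z
  | w, v => o
  | v, o => w
  | v, w => o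
  | v, v => z

def mul : F4 → F4 → F4
  | z, _ => z
  | _, z => z
  | o, x => x
  | x, o => x
  | w, w => v
  | w, v => o
  | v, w => o
  | v, v => w

def inv : F4 → F4
  | z => z
  | o => o
  | w => v
  | v => w

instance : Add F4 := ⟨add⟩
instance : Mul F4 := ⟨mul⟩
instance : Zero F4 := ⟨z⟩
instance : One F4 := ⟨o⟩
instance : Neg F4 := ⟨id⟩
instance : Inv F4 := ⟨inv⟩

instance : Field F4 where
  add_assoc := by decide
  zero_add := by decide
  add_zero := by decide
  nsmul := nsmulRec
  zsmul := zsmulRec
  neg_add_cancel := by decide
  add_comm := by decide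
  left_distrib := by decide
  right_distrib := by decide
  zero_mul := by decide
  mul_zero := by decide
  mul_assoc := by decide
  one_mul := by decide
  mul_one := by decide
  mul_comm := by decide
  exists_pair_ne := ⟨z, o, by decide⟩
  mul_inv_cancel := by decide
  inv_zero := rfl
  nnqsmul := _
  qsmul := _

theorem card : Fintype.card F4 = 4 := by decide

theorem neg_eq (x : F4) : -x = x := rfl

theorem zero_def : (0 : F4) = z := rfl
theorem one_def : (1 : F4) = o := rfl

end F4

end Cfsg.Agent.Lib.Helper86.Sp4F4
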