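import Cfsg.Agent.Lib.Helper86.Sp4.Sp4Card

/-!
# The action of `Sp₄(4)` on the 85 points of the projective space `PG(3,4)`
-/

set_option autoImplicit false

namespace Cfsg.Agent.Lib.Helper86.Sp4Pts

open Cfsg.Agent.Lib.Helper86.Sp4F4 Cfsg.Agent.Lib.Helper86.Sp4Card Matrix

def ofN : ℕ → F4
  | 0 => .z
  | 1 => .o
  | 2 => .w
  | _ => .v

def toN : F4 → ℕ
  | .z => 0
  | .o => 1
  | .w => 2
  | .v => 3

/-- packed coordinates of the 85 points: 8 bits per point -/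
def VT : ℕ := 0xfdbd7d3dedad6d2ddd9d5d1dcd8d4d0df9b97939e9a96929d9995919c9894909f5b57535e5a56525d5955515c5854505f1b17131e1a16121d1915111c1814101f4b47434e4a46424d4945414c4844404d090501040

/-- packed point index of each vector code: 7 bits per code -/
def PT : ℕ := 0x54fea0a94be20f753da14347d20264ee812a4ae00b852d810446d0035d0e60e9ccde137d4d60c3c8ce044cde4068c9dc076d1d4082c5cc0058fa98c98ba18e7939993387918468ea794a8a9f8a892978f4868f82610a590a0c9d92814958b4088d8350da3889099b8671193873058b80570290b96c21107741912368110366f2713a6b1f0c873170e4670f045f1250f9ed1d147f5150a3e90d024ee23078ea1b086f213062e60b0052f688992b608d7335891327508162e6691a2a5e89832568d4264e815b0648d9ac5c917b454893a84c814ad62858a95a856b152852a54ad5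

def cd (p j : ℕ) : F4 := ofN ((VT >>> (8 * p + 2 * j)) &&& 3)

def pt4 (a b c d : F4) : ℕ :=
  (PT >>> (7 * (toN a + 4 * toN b + 16 * toN c + 64 * toN d))) &&& 127

def vec (p : ℕ) : V := mkV (cd p 0) (cd p 1) (cd p 2) (cd p 3)

def pt (v : V) : ℕ := pt4 (v (.inl 0)) (v (.inl 1)) (v (.inr 0)) (v (.inr 1))

theorem D1 : ∀ a b c d : F4, (a, b, c, d) ≠ (0, 0, 0, 0) → ∃ k : F4, k ≠ 0 ∧
    cd (pt4 a b c d) 0 = k * a ∧ cd (pt4 a b c d) 1 = k * b ∧ cd (pt4 a b c d) 2 = k * c ∧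
    cd (pt4 a b c d) 3 = k * d := by decide +kernel

theorem D2 : ∀ k a b c d : F4, k ≠ 0 → pt4 (k * a) (k * b) (k * c) (k * d) = pt4 a b c d := by
  decide +kernel

theorem D3 : ∀ p, p < 85 → pt4 (cd p 0) (cd p 1) (cd p 2) (cd p 3) = p := by decide +kernel

theorem D4 : ∀ p, p < 85 → (cd p 0, cd p 1, cd p 2, cd p 3) ≠ ((0 : F4), (0 : F4), (0 : F4), (0 : F4)) := by
  decide +kernel

theorem D5 : ∀ a b c d : F4, (a, b, c, d) ≠ (0, 0, 0, 0) → pt4 a b c d < 85 := by decide +kernel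

theorem tup_ne {v : V} (hv : v ≠ 0) :
    (v (.inl 0), v (.inl 1), v (.inr 0), v (.inr 1)) ≠ ((0 : F4), (0 : F4), (0 : F4), (0 : F4)) := by
  intro h
  apply hv
  rw [eta v]
  simp only [Prod.mk.injEq] at h
  funext i
  revert i
  apply forall_I4 <;> simp [mkV, h]

theorem pt_vec {p : ℕ} (hp : p < 85) : pt (vec p) = p := D3 p hp

theorem vec_ne {p : ℕ} (hp : p < 85) : vec p ≠ 0 := by
  intro h
  apply D4 p hp
  have h0 := congrFun h (.inl 0)
  have h1 := congrFun h (.inl 1)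
  have h2 := congrFun h (.inr 0)
  have h3 := congrFun h (.inr 1)
  change cd p 0 = 0 at h0
  change cd p 1 = 0 at h1
  change cd p 2 = 0 at h2
  change cd p 3 = 0 at h3
  rw [h0, h1, h2, h3]

theorem pt_lt {v : V} (hv : v ≠ 0) : pt v < 85 := D5 _ _ _ _ (tup_ne hv)

theorem smul_mkV (k a b c d : F4) : k • mkV a b c d = mkV (k * a) (k * b) (k * c) (k * d) := by
  funext i
  revert i
  apply forall_I4 <;> rfl

theorem vec_pt {w : V} (hw : w ≠ 0) : ∃ k : F4, k ≠ 0 ∧ vec (pt w) = k • w := by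
  obtain ⟨k, hk, h0, h1, h2, h3⟩ := D1 _ _ _ _ (tup_ne hw)
  refine ⟨k, hk, ?_⟩
  conv_rhs => rw [eta w, smul_mkV]
  unfold vec
  change mkV (cd (pt4 _ _ _ _) 0) (cd (pt4 _ _ _ _) 1) (cd (pt4 _ _ _ _) 2) (cd (pt4 _ _ _ _) 3) = _
  rw [h0, h1, h2, h3]

theorem pt_smul {k : F4} (hk : k ≠ 0) (u : V) : pt (k • u) = pt u :=
  D2 k _ _ _ _ hk

instance actP : MulAction S (Fin 85) where
  smul A i := ⟨pt (A.1 *ᵥ vec i.1) % 85, Nat.mod_lt _ (by norm_num)⟩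
  one_smul i := by
    apply Fin.ext
    change pt ((1 : Matrix I4 I4 F4) *ᵥ vec i.1) % 85 = i.1
    rw [Matrix.one_mulVec, pt_vec i.2, Nat.mod_eq_of_lt i.2]
  mul_smul A B i := by
    apply Fin.ext
    change pt ((A.1 * B.1) *ᵥ vec i.1) % 85 = pt (A.1 *ᵥ vec (pt (B.1 *ᵥ vec i.1) % 85)) % 85
    have hw : B.1 *ᵥ vec i.1 ≠ 0 := smul_ne_zero B _ (vec_ne i.2)
    obtain ⟨k, hk, hv⟩ := vec_pt hw
    rw [Nat.mod_eq_of_lt (pt_lt hw), hv, Matrix.mulVec_smul, pt_smul hk, Matrix.mulVec_mulVec]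

/-- the permutation representation of `Sp₄(4)` on the 85 points -/
noncomputable def tau : S →* Equiv.Perm (Fin 85) := MulAction.toPermHom S (Fin 85)

theorem tau_apply (A : S) (i : Fin 85) : ((tau A i : Fin 85) : ℕ) = pt (A.1 *ᵥ vec i.1) := by
  change pt (A.1 *ᵥ vec i.1) % 85 = _
  exact Nat.mod_eq_of_lt (pt_lt (smul_ne_zero A _ (vec_ne i.2)))

/-! ### explicit matrices from codes -/

def en (m i j : ℕ) : F4 := ofN ((m >>> (2 * (4 * i + j))) &&& 3)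

def idx : I4 → ℕ
  | .inl i => i.1
  | .inr i => 2 + i.1

def mkM (m : ℕ) : Matrix I4 I4 F4 := fun i j => en m (idx i) (idx j)

def dotN (m i p : ℕ) : F4 :=
  en m i 0 * cd p 0 + en m i 1 * cd p 1 + en m i 2 * cd p 2 + en m i 3 * cd p 3

def actN (m p : ℕ) : ℕ := pt4 (dotN m 0 p) (dotN m 1 p) (dotN m 2 p) (dotN m 3 p)

theorem pt_mkM (m p : ℕ) : pt (mkM m *ᵥ vec p) = actN m p := by
  unfold pt
  rw [mulVec4, mulVec4, mulVec4, mulVec4]
  rfl

theorem mkM_mem (m : ℕ) (h : mkM m * J (Fin 2) F4 * (mkM m)ᵀ = J (Fin 2) F4) : mkM m ∈ S :=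
  SymplecticGroup.mem_iff.2 h

/-- the symplectic matrix with code `m` -/
def mkS (m : ℕ) (h : mkM m ∈ S) : S := ⟨mkM m, h⟩

theorem tau_mkS (m : ℕ) (h : mkM m ∈ S) (i : Fin 85) :
    ((tau (mkS m h) i : Fin 85) : ℕ) = actN m i.1 := by
  rw [tau_apply]
  exact pt_mkM m i.1

end Cfsg.Agent.Lib.Helper86.Sp4Pts
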